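import Groth.Agent.QSecLib.Ring
import Groth.Agent.KoszAtLib.Basic
import Groth.Agent.RegImmKindLib.LocK
import Groth.Agent.RegImmKindLib.KindFlat
import Groth.Agent.RegImmKindLib.Codim
import Groth.Agent.RelQRegLib.Scheme
import Groth.Agent.FibDimLib.Smooth
import Groth.Prelude.Def_RegImm
import Mathlib

/-!
# Quasi-regular local sections and smoothness
-/

set_option autoImplicit false
set_option linter.style.haveILetI false
set_option backward.isDefEq.respectTransparency.types false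

noncomputable section

universe u

open CategoryTheory CategoryTheory.Limits AlgebraicGeometry

namespace QSecLib

variable {Z X S : Scheme.{u}} (f : X ⟶ S) [LocallyOfFinitePresentation f] (i : Z ⟶ X)

/-- A morphism is smooth along a quasi-regular local section. -/
theorem smooth_and_dim_of_quasi [IsOpenImmersion (i ≫ f)] (z : Z) {U₀ : X.Opens} (hU₀ : IsAffineOpen U₀)
    (hzU : i z ∈ U₀) (hcl : IsClosedImmersion (i ∣_ U₀)) (rs₀ : List Γ(X, U₀))
    (hrs₀ : RegImm.Kind.quasi.Seq Γ(X, U₀) rs₀) (hker₀ : RingHom.ker (i.app U₀).hom = Ideal.ofList rs₀) :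
    i z ∈ f.smoothLocus ∧ FlatMor.fibreDimAt f (i z) = rs₀.length := by
  obtain ⟨hU₀', hs₀⟩ := (KRLib.isClosedImmersion_restrict_iff i hU₀).1 hcl
  let j := i ≫ f
  obtain ⟨_, ⟨V₀, hV₀, rfl⟩, hzV, -⟩ :=
    S.isBasis_affineOpens.exists_subset_of_mem_open (Set.mem_univ (f (i z))) isOpen_univ
  obtain ⟨g, hgle, hzg⟩ := hU₀.exists_basicOpen_le (V := f ⁻¹ᵁ V₀ ⊓ U₀) ⟨i z, ⟨hzV, hzU⟩⟩ hzU
  have e₀ : X.basicOpen g ≤ f ⁻¹ᵁ V₀ := hgle.trans inf_le_left
  obtain ⟨a, hale, hza⟩ := hV₀.exists_basicOpen_le (V := j ''ᵁ (i ⁻¹ᵁ X.basicOpen g))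
    ⟨f (i z), ⟨z, hzg, rfl⟩⟩ hzV
  obtain ⟨h1, h2, h3⟩ := KRLib.basicOpen_data i hU₀ hU₀' hs₀ g
  let a' := f.appLE V₀ (X.basicOpen g) e₀ a
  have hU'' : X.basicOpen a' = X.basicOpen g ⊓ f ⁻¹ᵁ S.basicOpen a := by
    rw [Scheme.preimage_basicOpen, ← X.basicOpen_res (f.app V₀ a) (homOfLE e₀).op]
    rfl
  obtain ⟨h4, h5, h6⟩ := KRLib.basicOpen_data i (hU₀.basicOpen g) h1 h2 a'
  letI : Algebra Γ(X, U₀) Γ(X, X.basicOpen g) :=
    (X.presheaf.map (homOfLE (X.basicOpen_le g)).op).hom.toAlgebra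
  haveI : IsLocalization.Away g Γ(X, X.basicOpen g) := hU₀.isLocalization_basicOpen g
  haveI : Module.Flat Γ(X, U₀) Γ(X, X.basicOpen g) := IsLocalization.flat _ (Submonoid.powers g)
  have hk : RegImm.Kind.quasi ≠ .regular := by decide
  have hrs₁ := RegImmKindLib.seq_map' (R := Γ(X, X.basicOpen g)) hk hrs₀
  letI : Algebra Γ(X, X.basicOpen g) Γ(X, X.basicOpen a') :=
    (X.presheaf.map (homOfLE (X.basicOpen_le a')).op).hom.toAlgebra
  haveI : IsLocalization.Away a' Γ(X, X.basicOpen a') := (hU₀.basicOpen g).isLocalization_basicOpen a'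
  haveI : Module.Flat Γ(X, X.basicOpen g) Γ(X, X.basicOpen a') := IsLocalization.flat _ (Submonoid.powers a')
  let rs := (rs₀.map (algebraMap Γ(X, U₀) Γ(X, X.basicOpen g))).map
    (algebraMap Γ(X, X.basicOpen g) Γ(X, X.basicOpen a'))
  have hrs : RegImm.Kind.quasi.Seq Γ(X, X.basicOpen a') rs := RegImmKindLib.seq_map' hk hrs₁
  have hlen : rs.length = rs₀.length := by simp [rs]
  have hkerU : RingHom.ker (i.app (X.basicOpen a')).hom = Ideal.ofList rs := by
    rw [h6, h3, hker₀, Ideal.map_ofList, Ideal.map_ofList]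
    rfl
  have hW : IsAffineOpen (S.basicOpen a) := hV₀.basicOpen a
  have e : X.basicOpen a' ≤ f ⁻¹ᵁ S.basicOpen a := hU''.trans_le inf_le_right
  have hpre : i ⁻¹ᵁ X.basicOpen a' = j ⁻¹ᵁ S.basicOpen a := by
    refine le_antisymm (fun w hw => e hw) fun w hw => ?_
    obtain ⟨w', hw', hw''⟩ := hale hw
    obtain rfl : w' = w := j.isOpenEmbedding.injective hw''
    exact hU''.ge ⟨hw', hw⟩
  have e' : i ⁻¹ᵁ X.basicOpen a' ≤ j ⁻¹ᵁ S.basicOpen a := hpre.le
  haveI : IsIso (j.app (S.basicOpen a)) := j.isIso_app _ (hale.trans (j.image_le_opensRange _))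
  have hbij : Function.Bijective (j.appLE (S.basicOpen a) (i ⁻¹ᵁ X.basicOpen a') e').hom := by
    have h : IsIso (Z.presheaf.map (homOfLE e').op) := by
      rw [show homOfLE e' = eqToHom hpre from Subsingleton.elim _ _]
      infer_instance
    exact ConcreteCategory.bijective_of_isIso (j.app (S.basicOpen a) ≫ Z.presheaf.map (homOfLE e').op)
  have hcomp : f.appLE (S.basicOpen a) (X.basicOpen a') e ≫ i.app (X.basicOpen a') =
      j.appLE (S.basicOpen a) (i ⁻¹ᵁ X.basicOpen a') e' := by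
    rw [Scheme.Hom.app_eq_appLE, Scheme.Hom.appLE_comp_appLE]
  have hfp := f.finitePresentation_appLE hW (hU₀.basicOpen g |>.basicOpen a') e
  letI alg : Algebra Γ(S, S.basicOpen a) Γ(X, X.basicOpen a') :=
    (f.appLE (S.basicOpen a) (X.basicOpen a') e).hom.toAlgebra
  haveI : Algebra.FinitePresentation Γ(S, S.basicOpen a) Γ(X, X.basicOpen a') := hfp
  let σ := RingEquiv.ofBijective _ hbij
  let ε : Γ(X, X.basicOpen a') →ₐ[Γ(S, S.basicOpen a)] Γ(S, S.basicOpen a) :=
    { σ.symm.toRingHom.comp (i.app (X.basicOpen a')).hom with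
      commutes' := fun r => by
        show σ.symm ((f.appLE (S.basicOpen a) (X.basicOpen a') e ≫ i.app (X.basicOpen a')).hom r) = r
        rw [hcomp]
        exact σ.symm_apply_apply r }
  have hεker : RingHom.ker ε = Ideal.span (Set.range rs.get) := by
    rw [show Ideal.span (Set.range rs.get) = Ideal.ofList rs by rw [Ideal.ofList, Set.range_list_get], ← hkerU]
    ext x
    show σ.symm (i.app (X.basicOpen a') x) = 0 ↔ _
    rw [map_eq_zero_iff σ.symm σ.symm.injective]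
    rfl
  obtain ⟨b, hb, hsm, g', hg', het⟩ := exists_smooth_of_quasi ε rs.get hεker hrs
  have hz' : i z ∈ X.basicOpen a' := hU''.ge ⟨hzg, hza⟩
  rw [Scheme.Hom.mem_smoothLocus,
    formallySmooth_stalkMap_iff (S.basicOpen a) hW (X.basicOpen a') ((hU₀.basicOpen g).basicOpen a') e hz']
  have hb' : b ∉ ((hU₀.basicOpen g).basicOpen a' |>.primeIdealOf ⟨i z, hz'⟩).asIdeal := by
    have hunit : IsUnit (i.app (X.basicOpen a') b) := by
      have h : σ.symm (i.app (X.basicOpen a') b) = 1 := hb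
      rw [show i.app (X.basicOpen a') b = σ 1 from (σ.symm_apply_eq).1 h, map_one]
      exact isUnit_one
    have hmem : z ∈ Z.basicOpen (i.app (X.basicOpen a') b) := by
      rw [Scheme.basicOpen_of_isUnit _ hunit]
      exact hz'
    have h2 : i z ∈ X.basicOpen b := by
      rw [← Scheme.preimage_basicOpen] at hmem
      exact hmem
    rw [show i z = ((hU₀.basicOpen g).basicOpen a').fromSpec (((hU₀.basicOpen g).basicOpen a').primeIdealOf ⟨i z, hz'⟩)
      from (((hU₀.basicOpen g).basicOpen a').fromSpec_primeIdealOf ⟨i z, hz'⟩).symm] at h2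
    have h3 : ((hU₀.basicOpen g).basicOpen a').primeIdealOf ⟨i z, hz'⟩ ∈
        ((hU₀.basicOpen g).basicOpen a').fromSpec ⁻¹ᵁ X.basicOpen b := h2
    rw [IsAffineOpen.fromSpec_preimage_basicOpen] at h3
    exact h3
  refine ⟨Algebra.basicOpen_subset_smoothLocus_iff.2 hsm.1 hb', ?_⟩
  letI : Algebra Γ(X, X.basicOpen a') Γ(X, X.basicOpen b) :=
    (X.presheaf.map (homOfLE (X.basicOpen_le b)).op).hom.toAlgebra
  haveI : IsLocalization.Away b Γ(X, X.basicOpen b) := ((hU₀.basicOpen g).basicOpen a').isLocalization_basicOpen b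
  let E := (IsLocalization.algEquiv (Submonoid.powers b) (Localization.Away b) Γ(X, X.basicOpen b)).toRingEquiv
  have hmemb : i z ∈ X.basicOpen b := by
    rw [show i z = ((hU₀.basicOpen g).basicOpen a').fromSpec (((hU₀.basicOpen g).basicOpen a').primeIdealOf ⟨i z, hz'⟩)
      from (((hU₀.basicOpen g).basicOpen a').fromSpec_primeIdealOf ⟨i z, hz'⟩).symm]
    show ((hU₀.basicOpen g).basicOpen a').primeIdealOf ⟨i z, hz'⟩ ∈
      ((hU₀.basicOpen g).basicOpen a').fromSpec ⁻¹ᵁ X.basicOpen b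
    rw [IsAffineOpen.fromSpec_preimage_basicOpen]
    exact hb'
  have hcompC : (E.toRingHom.comp g').comp MvPolynomial.C =
      (f.appLE (S.basicOpen a) (X.basicOpen b) ((X.basicOpen_le b).trans e)).hom := by
    rw [RingHom.comp_assoc, hg']
    refine RingHom.ext fun r => ?_
    show (IsLocalization.algEquiv (Submonoid.powers b) (Localization.Away b) Γ(X, X.basicOpen b))
      (algebraMap Γ(S, S.basicOpen a) (Localization.Away b) r) = _
    rw [IsScalarTower.algebraMap_apply Γ(S, S.basicOpen a) Γ(X, X.basicOpen a') (Localization.Away b),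
      AlgEquiv.commutes]
    show (f.appLE (S.basicOpen a) (X.basicOpen a') e ≫ X.presheaf.map (homOfLE (X.basicOpen_le b)).op).hom r = _
    rw [Scheme.Hom.appLE_map]
  rw [FibDimLib.fibreDimAt_chart f hW (((hU₀.basicOpen g).basicOpen a').basicOpen b) ((X.basicOpen_le b).trans e)
    (E.toRingHom.comp g') hcompC (RingHom.Etale.respectsIso.1 _ E het) (i z) hmemb, hlen]

theorem mem_smoothLocus_of_quasi [IsOpenImmersion (i ≫ f)] (z : Z)
    (h : RegImm.IsRegularImmersionAt RegImm.Kind.quasi i z) : i z ∈ f.smoothLocus := by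
  obtain ⟨⟨U₀, hU₀⟩, hzU, hcl, rs₀, hrs₀, hker₀⟩ := h
  exact (smooth_and_dim_of_quasi f i z hU₀ hzU hcl rs₀ hrs₀ hker₀).1

/-- A local section through smooth points is a quasi-regular immersion. -/
theorem quasi_of_mem_smoothLocus [IsImmersion i] [Smooth (i ≫ f)] (z : Z) (hz : i z ∈ f.smoothLocus) :
    RegImm.IsRegularImmersionAt RegImm.Kind.quasi i z := by
  obtain ⟨V, hV, hxV, -⟩ := exists_isAffineOpen_mem_and_subset (x := f (i z)) (U := ⊤) trivial
  obtain ⟨W, hW, hxW, hWV⟩ := exists_isAffineOpen_mem_and_subset (x := i z)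
    (U := f ⁻¹ᵁ V ⊓ (i.coborderRange ⊓ f.smoothLocus)) ⟨hxV, subset_coborder ⟨z, rfl⟩, hz⟩
  have hWf : W ≤ f ⁻¹ᵁ V := le_trans hWV inf_le_left
  have hWs : W ≤ f.smoothLocus := le_trans hWV (inf_le_right.trans inf_le_right)
  obtain ⟨hWX, hs⟩ := KRLib.data_of_le_coborderRange i hW (le_trans hWV (inf_le_right.trans inf_le_left))
  have hfp := f.finitePresentation_appLE hV hW hWf
  letI := (f.appLE V W hWf).hom.toAlgebra
  haveI : Algebra.FinitePresentation Γ(S, V) Γ(X, W) := hfp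
  haveI : Algebra.Smooth Γ(S, V) Γ(X, W) := by
    refine ⟨Algebra.smoothLocus_eq_univ_iff.1 (Set.eq_univ_of_forall fun p => ?_), inferInstance⟩
    have hp := RegImmKindLib.fromSpec_mem hW p
    have h := (formallySmooth_stalkMap_iff V hV W hW hWf hp).1 (hWs hp)
    rwa [RegImmKindLib.primeIdealOf_fromSpec] at h
  have hkos : RegImm.IsRegularImmersionAt RegImm.Kind.koszul i z := by
    refine (KRLib.isRegularImmersionAt_koszul_iff i z).2 (KRLib.exists_goodChart_of_locKR hW hWX hs ?_ z hxW)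
    have e : i ⁻¹ᵁ W ≤ (i ≫ f) ⁻¹ᵁ V := (i.preimage_mono hWf).trans_eq (Scheme.Hom.comp_preimage i f V).symm
    have hl := HasRingHomProperty.appLE (P := KoszAtLib.LCIMor) (i ≫ f) (KoszAtLib.lciMor_of_smooth (i ≫ f))
      ⟨V, hV⟩ ⟨i ⁻¹ᵁ W, hWX⟩ e
    rw [← Scheme.Hom.appLE_comp_appLE i f V W (i ⁻¹ᵁ W) hWf le_rfl, CommRingCat.hom_comp] at hl
    letI := ((i.appLE W (i ⁻¹ᵁ W) le_rfl).hom.comp (f.appLE V W hWf).hom).toAlgebra
    let σ : Γ(X, W) →ₐ[Γ(S, V)] Γ(Z, i ⁻¹ᵁ W) :=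
      { (i.appLE W (i ⁻¹ᵁ W) le_rfl).hom with commutes' := fun _ => rfl }
    have hσ : Function.Surjective σ := by
      show Function.Surjective (i.appLE W (i ⁻¹ᵁ W) le_rfl).hom
      rw [← Scheme.Hom.app_eq_appLE]; exact hs
    rw [Scheme.Hom.app_eq_appLE]
    exact KoszAtLib.locKR_ker_of_smooth σ hσ hl
  obtain ⟨U, hzU, hcl, rs, hrs, hker⟩ := hkos
  exact ⟨U, hzU, hcl, rs, RegImmKindLib.seq_quasi_of_h1 (RegImmKindLib.seq_h1_of_koszul hrs), hker⟩

/-- A local section of a smooth morphism is a regular immersion of codimension the relative dimension. -/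
theorem regularOfCodim_of_smooth [IsImmersion i] [Smooth f] [IsOpenImmersion (i ≫ f)] (n : ℕ)
    (hdim : ∀ z : Z, FlatMor.fibreDimAt f (i z) = n) :
    RegImm.IsRegularImmersionOfCodim RegImm.Kind.regular n i := by
  refine ⟨inferInstance, fun z => ?_⟩
  have hrel : RegImm.IsRelRegularImmersion RegImm.Kind.quasi f i :=
    ⟨⟨inferInstance, fun w => quasi_of_mem_smoothLocus f i w (by rw [f.smoothLocus_eq_top]; trivial)⟩, inferInstance⟩
  obtain ⟨U, hzU, hcl, rs, hrs, hker⟩ := RelQRegLib.regular_of_quasi f i hrel z (Flat.stalkMap f _)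
  have h := (smooth_and_dim_of_quasi f i z U.2 hzU hcl rs (RegImmKindLib.seq_quasi_of_h1
    (RegImmKindLib.seq_h1_of_koszul (RegImmKindLib.seq_koszul_of_regular hrs))) hker).2
  rw [hdim z] at h
  exact ⟨U, hzU, hcl, rs, by exact_mod_cast h.symm, hrs, hker⟩

theorem isImmersion_of_comp_eq_id {S X : Scheme.{u}} (f : X ⟶ S) (u : S ⟶ X) (hu : u ≫ f = 𝟙 S) : IsImmersion u := by
  haveI : IsImmersion (u ≫ f) := by rw [hu]; infer_instance
  exact IsImmersion.of_comp u f

end QSecLib
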