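import Groth.Agent.HenselLib.NewtonSystem
import Groth.Prelude.Def_CAlgX
import Mathlib

/-!
# An algebra with a quasi-regular augmentation is smooth along it
-/

set_option autoImplicit false
set_option backward.isDefEq.respectTransparency.types false

universe u

open MvPolynomial

namespace QSecLib

noncomputable section

theorem exists_finset_range1 {A : Type u} [CommRing A] {σ : Type} (p : MvPolynomial σ A) :
    ∃ s : Finset A, ∀ S : Subalgebra ℤ A, (↑s : Set A) ⊆ S → p ∈ (MvPolynomial.map (σ := σ) S.val.toRingHom).range := by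
  classical
  induction p using MvPolynomial.induction_on with
  | C a => exact ⟨{a}, fun S hS => ⟨C ⟨a, hS (Finset.mem_singleton_self a)⟩, map_C _ _⟩⟩
  | add p q hp hq =>
    obtain ⟨s, hs⟩ := hp
    obtain ⟨t, ht⟩ := hq
    exact ⟨s ∪ t, fun S hS => add_mem (hs S fun x hx => hS (Finset.mem_union_left _ hx))
      (ht S fun x hx => hS (Finset.mem_union_right _ hx))⟩
  | mul_X p i hp =>
    obtain ⟨s, hs⟩ := hp
    exact ⟨s, fun S hS => mul_mem (hs S hS) ⟨X i, map_X _ _⟩⟩

theorem exists_finset_range2 {A : Type u} [CommRing A] {σ τ : Type} (p : MvPolynomial τ (MvPolynomial σ A)) :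
    ∃ s : Finset A, ∀ S : Subalgebra ℤ A, (↑s : Set A) ⊆ S →
      ∃ q, MvPolynomial.map (σ := τ) (MvPolynomial.map (σ := σ) S.val.toRingHom) q = p := by
  classical
  induction p using MvPolynomial.induction_on with
  | C a =>
    obtain ⟨s, hs⟩ := exists_finset_range1 a
    refine ⟨s, fun S hS => ?_⟩
    obtain ⟨b, hb⟩ := hs S hS
    exact ⟨C b, by rw [map_C, hb]⟩
  | add p q hp hq =>
    obtain ⟨s, hs⟩ := hp
    obtain ⟨t, ht⟩ := hq
    refine ⟨s ∪ t, fun S hS => ?_⟩
    obtain ⟨a, ha⟩ := hs S fun x hx => hS (Finset.mem_union_left _ hx)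
    obtain ⟨b, hb⟩ := ht S fun x hx => hS (Finset.mem_union_right _ hx)
    exact ⟨a + b, by rw [map_add, ha, hb]⟩
  | mul_X p i hp =>
    obtain ⟨s, hs⟩ := hp
    refine ⟨s, fun S hS => ?_⟩
    obtain ⟨a, ha⟩ := hs S hS
    exact ⟨a * X i, by rw [map_mul, ha, map_X]⟩

/-- Quasi-regularity along an augmentation. -/
theorem mem_pow_of_aeval_mem {A B : Type u} [CommRing A] [CommRing B] [Algebra A B] (ε : B →ₐ[A] A) {r : ℕ}
    (f : Fin r → B) (hε : ∀ k, ε (f k) = 0) (hq : CAlgX.IsQuasiRegular f) (p : MvPolynomial (Fin r) A) (n : ℕ)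
    (hp : aeval f p ∈ Ideal.span (Set.range f) ^ n) : p ∈ idealOfVars (Fin r) A ^ n := by
  classical
  let I := Ideal.span (Set.range f)
  have hI : ∀ a : A, algebraMap A B a ∈ I → a = 0 := fun a ha => by
    have h : I ≤ RingHom.ker ε := Ideal.span_le.2 (Set.range_subset_iff.2 hε)
    simpa using h ha
  have hmap : ∀ m, ∀ q ∈ idealOfVars (Fin r) A ^ m, aeval f q ∈ I ^ m := fun m q hq => by
    have h : (idealOfVars (Fin r) A).map (aeval f : MvPolynomial (Fin r) A →ₐ[A] B) ≤ I := by
      rw [idealOfVars, Ideal.map_span]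
      refine Ideal.span_le.2 ?_
      rintro _ ⟨_, ⟨k, rfl⟩, rfl⟩
      rw [aeval_X]
      exact Ideal.subset_span ⟨k, rfl⟩
    have h2 := Ideal.mem_map_of_mem (aeval f : MvPolynomial (Fin r) A →ₐ[A] B) hq
    rw [Ideal.map_pow] at h2
    exact Ideal.pow_right_mono h m h2
  suffices ∀ m ≤ n, p ∈ idealOfVars (Fin r) A ^ m from this n le_rfl
  intro m hm
  induction m with
  | zero => simp
  | succ m ih =>
    have hpm := ih (by omega)
    have h1 := (mem_pow_idealOfVars_iff' m p).1 hpm
    have hrest : p - homogeneousComponent m p ∈ idealOfVars (Fin r) A ^ (m + 1) := by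
      rw [mem_pow_idealOfVars_iff']
      intro d hd
      rw [coeff_sub, coeff_homogeneousComponent]
      split_ifs with h
      · exact sub_self _
      · rw [sub_zero]
        exact h1 d (by omega)
    let P : MvPolynomial (Fin r) B := MvPolynomial.map (algebraMap A B) (homogeneousComponent m p)
    have hP : MvPolynomial.eval f P ∈ I ^ (m + 1) := by
      rw [show MvPolynomial.eval f P = aeval f p - aeval f (p - homogeneousComponent m p) by
        rw [map_sub, sub_sub_cancel]
        simp only [P, MvPolynomial.eval_map, aeval_def]]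
      exact sub_mem (Ideal.pow_le_pow_right (by omega) hp) (hmap _ _ hrest)
    have hz : homogeneousComponent m p = 0 := MvPolynomial.ext _ _ fun d => by
      rw [coeff_zero]
      refine hI _ ?_
      rw [← MvPolynomial.coeff_map]
      exact hq m P ((homogeneousComponent_isHomogeneous m p).map _) hP d
    rwa [hz, sub_zero] at hrest

theorem exists_sub_mem_pow {R Q : Type u} [CommRing R] [CommRing Q] (c : R →+* Q) (J : Ideal R)
    (hbase : ∀ z, ∃ q, z - c q ∈ J.map c) : ∀ n, ∀ z, ∃ q, z - c q ∈ J.map c ^ n := by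
  intro n
  induction n with
  | zero => exact fun z => ⟨0, by simp⟩
  | succ n ih =>
    intro z
    obtain ⟨q, hq'⟩ := ih z
    have key : ∀ w ∈ (J ^ n).map c, ∃ q, w - c q ∈ J.map c ^ (n + 1) := fun w hw => by
      induction hw using Submodule.span_induction with
      | mem x hx =>
        obtain ⟨a, ha, rfl⟩ := hx
        exact ⟨a, by simp⟩
      | zero => exact ⟨0, by simp⟩
      | add x y _ _ hx hy =>
        obtain ⟨qx, hqx⟩ := hx
        obtain ⟨qy, hqy⟩ := hy
        refine ⟨qx + qy, ?_⟩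
        rw [map_add, show x + y - (c qx + c qy) = (x - c qx) + (y - c qy) by ring]
        exact add_mem hqx hqy
      | smul a x hx' hx =>
        obtain ⟨qx, hqx⟩ := hx
        obtain ⟨qa, hqa⟩ := hbase a
        refine ⟨qa * qx, ?_⟩
        rw [smul_eq_mul, map_mul, show a * x - c qa * c qx = (a - c qa) * x + c qa * (x - c qx) by ring]
        refine add_mem ?_ (Ideal.mul_mem_left _ _ hqx)
        rw [pow_succ', ← Ideal.map_pow]
        exact Ideal.mul_mem_mul hqa hx'
    obtain ⟨q', hq''⟩ := key _ (Ideal.map_pow c J n ▸ hq')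
    exact ⟨q + q', by rw [map_add, ← sub_sub]; exact hq''⟩

theorem exists_one_sub_mul_eq_zero {R Q B : Type u} [CommRing R] [CommRing Q] [CommRing B] [IsNoetherianRing Q]
    (c : R →+* Q) (θ : Q →+* B) (J : Ideal R) (I : Ideal B) (hbase : ∀ z, ∃ q, z - c q ∈ J.map c)
    (hθ : (J.map c).map θ ≤ I) (hinj : ∀ n, ∀ q, θ (c q) ∈ I ^ n → q ∈ J ^ n) (z : Q) (hz : θ z = 0) :
    ∃ t ∈ J.map c, (1 - t) * z = 0 := by
  have hmem : z ∈ (⨅ n : ℕ, J.map c ^ n • ⊤ : Submodule Q Q) := by
    rw [Submodule.mem_iInf]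
    intro n
    rw [smul_eq_mul, Ideal.mul_top]
    obtain ⟨q, hq⟩ := exists_sub_mem_pow c J hbase n z
    have h2 := Ideal.mem_map_of_mem θ hq
    rw [Ideal.map_pow, map_sub, hz, zero_sub, neg_mem_iff] at h2
    have h4 := Ideal.mem_map_of_mem c (hinj n q (Ideal.pow_right_mono hθ n h2))
    rw [Ideal.map_pow] at h4
    simpa using add_mem hq h4
  obtain ⟨⟨t, ht⟩, htz⟩ := (Ideal.mem_iInf_smul_pow_eq_bot_iff (J.map c) z).1 hmem
  exact ⟨t, ht, by rw [sub_mul, one_mul, sub_eq_zero]; exact htz.symm⟩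

theorem exists_kill_of_quot {R P B : Type u} [CommRing R] [CommRing P] [CommRing B] [IsNoetherianRing P]
    (c0 : R →+* P) (G : Ideal P) (θ0 : P →+* B) (J : Ideal R) (I : Ideal B) (hG : G ≤ RingHom.ker θ0)
    (hbase : ∀ z, ∃ q, z - c0 q ∈ J.map c0 ⊔ G) (hθ : (J.map c0).map θ0 ≤ I)
    (hinj : ∀ n, ∀ q, θ0 (c0 q) ∈ I ^ n → q ∈ J ^ n) (z : P) (hz : θ0 z = 0) :
    ∃ t ∈ J.map c0, (1 - t) * z ∈ G := by
  let θ : P ⧸ G →+* B := Ideal.Quotient.lift G θ0 fun a ha => hG ha
  have hmap : J.map ((Ideal.Quotient.mk G).comp c0) = (J.map c0).map (Ideal.Quotient.mk G) :=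
    (Ideal.map_map _ _).symm
  obtain ⟨t, ht, htz⟩ := exists_one_sub_mul_eq_zero ((Ideal.Quotient.mk G).comp c0) θ J I (fun y => by
    obtain ⟨y, rfl⟩ := Ideal.Quotient.mk_surjective y
    obtain ⟨q, hq⟩ := hbase y
    refine ⟨q, ?_⟩
    rw [hmap, RingHom.comp_apply, ← map_sub, Ideal.mem_quotient_iff_mem_sup]
    exact hq) (by rw [hmap, Ideal.map_map]; exact hθ) hinj (Ideal.Quotient.mk G z) hz
  obtain ⟨t, rfl⟩ := Ideal.Quotient.mk_surjective t
  rw [hmap, Ideal.mem_quotient_iff_mem_sup] at ht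
  obtain ⟨t0, ht0, g0, hg0, rfl⟩ := Submodule.mem_sup.1 ht
  refine ⟨t0, ht0, ?_⟩
  rw [← Ideal.Quotient.eq_zero_iff_mem, map_mul, map_sub, map_one]
  simpa only [map_add, Ideal.Quotient.eq_zero_iff_mem.2 hg0, add_zero] using htz

theorem etale_away_mul {A Q R' : Type u} [CommRing A] [CommRing Q] [CommRing R'] [Algebra A Q] [Algebra Q R']
    [Algebra A R'] [IsScalarTower A Q R'] (d v : Q) [IsLocalization.Away (d * v) R']
    (h : Algebra.Etale A (Localization.Away d)) : Algebra.Etale A R' := by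
  let E' := Localization.Away (algebraMap Q (Localization.Away d) v)
  haveI := h
  haveI : Algebra.Etale (Localization.Away d) E' :=
    Algebra.Etale.of_isLocalizationAway (algebraMap Q (Localization.Away d) v)
  haveI : Algebra.Etale A E' := Algebra.Etale.comp _ (Localization.Away d) E'
  haveI : IsLocalization.Away (d * v) E' := by
    exact IsLocalization.Away.mul' (Localization.Away d) E' d v
  exact Algebra.Etale.of_equiv ((IsLocalization.algEquiv (Submonoid.powers (d * v)) E' R').restrictScalars A)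

section Model

variable {A B : Type u} [CommRing A] [CommRing B] [Algebra A B] (ε : B →ₐ[A] A) {r N : ℕ} (f : Fin r → B)
  (φ : MvPolynomial (Fin N) (MvPolynomial (Fin r) A) →+* B)
  (P : Fin N → Fin r → MvPolynomial (Fin N) (MvPolynomial (Fin r) A))

/-- The triangular equations. -/
def eqn (j : Fin N) : MvPolynomial (Fin N) (MvPolynomial (Fin r) A) := X j - ∑ k, P j k * C (X k)

theorem exists_kill_model (hε : ∀ k, ε (f k) = 0) (hq : CAlgX.IsQuasiRegular f)
    (hC : ∀ p, φ (C p) = aeval f p) (hg : ∀ j, φ (eqn P j) = 0)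
    {S : Type u} [CommRing S] [IsNoetherianRing S] (ι0 : S →+* A) (hι0 : Function.Injective ι0)
    (P0 : Fin N → Fin r → MvPolynomial (Fin N) (MvPolynomial (Fin r) S))
    (hP0 : ∀ j k, MvPolynomial.map (MvPolynomial.map ι0) (P0 j k) = P j k)
    (h0 : MvPolynomial (Fin N) (MvPolynomial (Fin r) S))
    (hh : φ (MvPolynomial.map (MvPolynomial.map ι0) h0) = 0) :
    ∃ t ∈ ((idealOfVars (Fin r) A).map C : Ideal (MvPolynomial (Fin N) (MvPolynomial (Fin r) A))),
      (1 - t) * MvPolynomial.map (MvPolynomial.map ι0) h0 ∈ Ideal.span (Set.range (eqn P)) := by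
  let m1 : MvPolynomial (Fin r) S →+* MvPolynomial (Fin r) A := MvPolynomial.map ι0
  let m2 : MvPolynomial (Fin N) (MvPolynomial (Fin r) S) →+* MvPolynomial (Fin N) (MvPolynomial (Fin r) A) :=
    MvPolynomial.map m1
  have heqn : ∀ j, m2 (eqn P0 j) = eqn P j := fun j => by
    simp only [eqn, map_sub, map_sum, map_mul, m2, map_X, map_C, m1]
    congr 1
    exact Finset.sum_congr rfl fun k _ => by rw [hP0]
  let G := Ideal.span (Set.range (eqn P0))
  let c : MvPolynomial (Fin r) S →+* MvPolynomial (Fin N) (MvPolynomial (Fin r) S) := C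
  let J := idealOfVars (Fin r) S
  have hX : ∀ k, c (X k) ∈ J.map c := fun k => Ideal.mem_map_of_mem _ (Ideal.subset_span ⟨k, rfl⟩)
  have hbase : ∀ z : MvPolynomial (Fin N) (MvPolynomial (Fin r) S), ∃ q, z - c q ∈ J.map c ⊔ G := by
    intro z
    induction z using MvPolynomial.induction_on with
    | C a => exact ⟨a, by simp [c]⟩
    | add a b ha hb =>
      obtain ⟨qa, hqa⟩ := ha
      obtain ⟨qb, hqb⟩ := hb
      refine ⟨qa + qb, ?_⟩
      rw [map_add, add_sub_add_comm]
      exact add_mem hqa hqb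
    | mul_X a j ha =>
      refine ⟨0, ?_⟩
      rw [map_zero, sub_zero, show a * X j = a * eqn P0 j + a * ∑ k, P0 j k * C (X k) by rw [eqn]; ring]
      refine add_mem (Ideal.mem_sup_right (Ideal.mul_mem_left _ _ (Ideal.subset_span ⟨j, rfl⟩)))
        (Ideal.mem_sup_left (Ideal.mul_mem_left _ _ (Ideal.sum_mem _ fun k _ => Ideal.mul_mem_left _ _ (hX k))))
  have hθc : ∀ q, (φ.comp m2) (c q) = aeval f (m1 q) := fun q => by
    simp only [RingHom.comp_apply, c, m2, map_C]
    exact hC _
  have hθT : (J.map c).map (φ.comp m2) ≤ Ideal.span (Set.range f) := by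
    simp only [J, idealOfVars, Ideal.map_span]
    refine Ideal.span_le.2 ?_
    rintro _ ⟨_, ⟨_, ⟨k, rfl⟩, rfl⟩, rfl⟩
    rw [hθc]
    simp only [m1, map_X, aeval_X]
    exact Ideal.subset_span ⟨k, rfl⟩
  have hG : G ≤ RingHom.ker (φ.comp m2) := Ideal.span_le.2 (Set.range_subset_iff.2 fun j => by
    rw [SetLike.mem_coe, RingHom.mem_ker, RingHom.comp_apply, heqn, hg])
  have hinj : ∀ n, ∀ q, (φ.comp m2) (c q) ∈ Ideal.span (Set.range f) ^ n → q ∈ J ^ n := by
    intro n q hq'
    rw [hθc] at hq'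
    have h3 := (mem_pow_idealOfVars_iff' n _).1 (mem_pow_of_aeval_mem ε f hε hq (m1 q) n hq')
    rw [mem_pow_idealOfVars_iff']
    intro d hd
    have h5 := h3 d hd
    simp only [m1, MvPolynomial.coeff_map] at h5
    exact hι0 (h5.trans (map_zero ι0).symm)
  obtain ⟨t0, ht0, hz⟩ := exists_kill_of_quot (R := MvPolynomial (Fin r) S)
    (P := MvPolynomial (Fin N) (MvPolynomial (Fin r) S)) (B := B) c G (φ.comp m2) J
    (Ideal.span (Set.range f)) hG hbase hθT hinj h0 hh
  refine ⟨m2 t0, ?_, ?_⟩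
  · have h1 := Ideal.mem_map_of_mem m2 ht0
    simp only [J, c, idealOfVars, Ideal.map_map, Ideal.map_span] at h1
    refine Ideal.span_le.2 ?_ h1
    rintro _ ⟨_, ⟨_, ⟨k, rfl⟩, rfl⟩, rfl⟩
    simp only [m2, m1, map_C, map_X]
    exact Ideal.mem_map_of_mem _ (Ideal.subset_span ⟨k, rfl⟩)
  · have h1 := Ideal.mem_map_of_mem m2 hz
    rw [Ideal.map_span, ← Set.range_comp, map_mul, map_sub, map_one,
      show (m2 ∘ eqn P0) = eqn P from funext heqn] at h1
    exact h1

theorem exists_kill (hε : ∀ k, ε (f k) = 0) (hq : CAlgX.IsQuasiRegular f)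
    (hC : ∀ p, φ (C p) = aeval f p) (hg : ∀ j, φ (eqn P j) = 0)
    (h : MvPolynomial (Fin N) (MvPolynomial (Fin r) A)) (hh : φ h = 0) :
    ∃ t ∈ ((idealOfVars (Fin r) A).map C : Ideal (MvPolynomial (Fin N) (MvPolynomial (Fin r) A))),
      (1 - t) * h ∈ Ideal.span (Set.range (eqn P)) := by
  classical
  choose s hs using fun jk : Fin N × Fin r => exists_finset_range2 (P jk.1 jk.2)
  obtain ⟨sh, hsh⟩ := exists_finset_range2 h
  let S : Subalgebra ℤ A := Algebra.adjoin ℤ (↑(sh ∪ Finset.univ.biUnion s) : Set A)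
  haveI : IsNoetherianRing S := isNoetherianRing_of_fg (Subalgebra.fg_adjoin_finset _)
  choose P0 hP0 using fun j k => hs (j, k) S fun x hx => Algebra.subset_adjoin
    (Finset.mem_union_right _ (Finset.mem_biUnion.2 ⟨(j, k), Finset.mem_univ _, hx⟩))
  obtain ⟨h0, rfl⟩ := hsh S fun x hx => Algebra.subset_adjoin (Finset.mem_union_left _ hx)
  exact exists_kill_model ε f φ P hε hq hC hg S.val.toRingHom Subtype.val_injective P0 hP0 h0 hh

end Model

/-- An algebra of finite presentation with a quasi-regular augmentation is smooth along it. -/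
theorem exists_smooth_of_quasi {A B : Type u} [CommRing A] [CommRing B] [Algebra A B]
    [Algebra.FinitePresentation A B] (ε : B →ₐ[A] A) {r : ℕ} (f : Fin r → B)
    (hI : RingHom.ker ε = Ideal.span (Set.range f)) (hq : CAlgX.IsQuasiRegular f) :
    ∃ b, ε b = 1 ∧ Algebra.Smooth A (Localization.Away b) ∧
      ∃ g : MvPolynomial (Fin r) A →+* Localization.Away b,
        g.comp MvPolynomial.C = algebraMap A (Localization.Away b) ∧ g.Etale := by
  classical
  have hε : ∀ k, ε (f k) = 0 := fun k => by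
    have h : f k ∈ RingHom.ker ε := by rw [hI]; exact Ideal.subset_span ⟨k, rfl⟩
    exact h
  obtain ⟨N, ψ, hψ, -⟩ := Algebra.FinitePresentation.out (R := A) (A := B)
  let x : Fin N → B := fun j => ψ (X j) - algebraMap A B (ε (ψ (X j)))
  letI : Algebra (MvPolynomial (Fin r) A) B := (aeval f : MvPolynomial (Fin r) A →ₐ[A] B).toRingHom.toAlgebra
  haveI : IsScalarTower A (MvPolynomial (Fin r) A) B :=
    IsScalarTower.of_algebraMap_eq fun a => ((aeval f : MvPolynomial (Fin r) A →ₐ[A] B).commutes a).symm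
  let φ : MvPolynomial (Fin N) (MvPolynomial (Fin r) A) →ₐ[MvPolynomial (Fin r) A] B := aeval x
  have hφ : Function.Surjective φ := by
    intro b
    obtain ⟨p, rfl⟩ := hψ b
    refine ⟨aeval (fun j => X j + C (C (ε (ψ (X j))))) p, ?_⟩
    have h : (φ.restrictScalars A).comp (aeval fun j => X j + C (C (ε (ψ (X j))))) = ψ := by
      refine MvPolynomial.algHom_ext fun j => ?_
      simp only [AlgHom.comp_apply, aeval_X, AlgHom.restrictScalars_apply, map_add, φ, aeval_C, x]
      rw [IsScalarTower.algebraMap_apply A (MvPolynomial (Fin r) A) B, MvPolynomial.algebraMap_eq]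
      exact sub_add_cancel _ _
    exact DFunLike.congr_fun h p
  have hxI : ∀ j, x j ∈ Ideal.span (Set.range f) := fun j => by
    rw [← hI, RingHom.mem_ker]
    simp [x]
  choose b hb using fun j => (Ideal.mem_span_range_iff_exists_fun (R := B)).1 (hxI j)
  choose P hP using fun j k => hφ (b j k)
  have hC : ∀ p, φ (C p) = aeval f p := fun p => aeval_C _ _
  have hg : ∀ j, φ (eqn P j) = 0 := fun j => by
    simp only [eqn, map_sub, map_sum, map_mul, hP, hC, aeval_X, hb]
    rw [show φ (X j) = x j from aeval_X _ _, sub_self]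
  haveI : Algebra.FinitePresentation (MvPolynomial (Fin r) A) B :=
    Algebra.FinitePresentation.of_restrict_scalars_finitePresentation A _ B
  obtain ⟨s, hs⟩ := Algebra.FinitePresentation.ker_fG_of_surjective φ hφ
  have hker : ∀ h ∈ s, φ h = 0 := fun h hh =>
    (show h ∈ RingHom.ker φ.toRingHom by rw [← hs]; exact Ideal.subset_span hh)
  choose t ht hth using fun h : s => exists_kill ε f φ.toRingHom P hε hq hC hg h.1 (hker h.1 h.2)
  let u : MvPolynomial (Fin N) (MvPolynomial (Fin r) A) := ∏ h : s, (1 - t h)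
  let det := (Matrix.of fun i j => MvPolynomial.pderiv i (eqn P j)).det
  let χ : MvPolynomial (Fin N) (MvPolynomial (Fin r) A) →+* A := (ε : B →+* A).comp φ.toRingHom
  have hχT : ∀ k, χ (C (X k)) = 0 := fun k => by
    show ε (φ (C (X k))) = 0
    rw [hC, aeval_X, hε]
  have hχu : χ u = 1 := by
    rw [map_prod]
    refine Finset.prod_eq_one fun h _ => ?_
    have hle : ((idealOfVars (Fin r) A).map C : Ideal (MvPolynomial (Fin N) (MvPolynomial (Fin r) A))) ≤
        RingHom.ker χ := by
      rw [idealOfVars, Ideal.map_span]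
      refine Ideal.span_le.2 ?_
      rintro _ ⟨_, ⟨k, rfl⟩, rfl⟩
      exact hχT k
    rw [map_sub, map_one, RingHom.mem_ker.1 (hle (ht h)), sub_zero]
  have hχd : χ det = 1 := by
    rw [RingHom.map_det]
    convert Matrix.det_one (n := Fin N) (R := A)
    ext i j
    simp only [RingHom.mapMatrix_apply, Matrix.map_apply, Matrix.of_apply, eqn, map_sub, map_sum,
      Derivation.leibniz, pderiv_C, smul_eq_mul, mul_zero, zero_add, map_mul, hχT, zero_mul,
      Finset.sum_const_zero, sub_zero, pderiv_X]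
    rw [Matrix.one_apply, Pi.single_apply, apply_ite χ, map_one, map_zero]
    exact if_congr eq_comm rfl rfl
  let G := Ideal.span (Set.range (eqn P))
  let ψ' : MvPolynomial (Fin N) (MvPolynomial (Fin r) A) ⧸ G →ₐ[MvPolynomial (Fin r) A] B :=
    Ideal.Quotient.liftₐ G φ fun a ha => (Ideal.span_le.2 (Set.range_subset_iff.2 hg) : G ≤ RingHom.ker φ) ha
  let d' := Ideal.Quotient.mk G det
  let u' := Ideal.Quotient.mk G u
  have hkill : ∀ z, ψ' z = 0 → u' * z = 0 := by
    intro z hz
    obtain ⟨z, rfl⟩ := Ideal.Quotient.mk_surjective z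
    rw [← map_mul, Ideal.Quotient.eq_zero_iff_mem]
    have hz' : z ∈ RingHom.ker φ.toRingHom := hz
    rw [← hs] at hz'
    clear hz
    induction hz' using Submodule.span_induction with
    | mem w hw =>
      obtain ⟨rest, hrest⟩ := Finset.dvd_prod_of_mem (fun h : s => 1 - t h) (Finset.mem_univ ⟨w, hw⟩)
      show (∏ h : s, (1 - t h)) * w ∈ G
      rw [hrest, mul_comm (1 - t ⟨w, hw⟩) rest, mul_assoc]
      exact Ideal.mul_mem_left _ _ (hth ⟨w, hw⟩)
    | zero => simp
    | add a b _ _ ha hb => rw [mul_add]; exact add_mem ha hb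
    | smul a b _ hb => rw [smul_eq_mul, mul_left_comm]; exact Ideal.mul_mem_left _ _ hb
  refine ⟨ψ' (d' * u'), ?_, ?_⟩
  · show ε (ψ' (d' * u')) = 1
    rw [map_mul, map_mul]
    show χ det * χ u = 1
    rw [hχd, hχu, one_mul]
  · let R' := Localization.Away (ψ' (d' * u'))
    letI : Algebra (MvPolynomial (Fin N) (MvPolynomial (Fin r) A) ⧸ G) R' :=
      ((algebraMap B R').comp ψ'.toRingHom).toAlgebra
    haveI : IsScalarTower (MvPolynomial (Fin r) A) (MvPolynomial (Fin N) (MvPolynomial (Fin r) A) ⧸ G) R' :=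
      IsScalarTower.of_algebraMap_eq (R := MvPolynomial (Fin r) A)
        (S := MvPolynomial (Fin N) (MvPolynomial (Fin r) A) ⧸ G) (A := R') fun a => by
        show _ = algebraMap B R' (ψ' (algebraMap _ _ a))
        rw [AlgHom.commutes, ← IsScalarTower.algebraMap_apply]
    have hψ' : Function.Surjective ψ' := fun y => by
      obtain ⟨p, rfl⟩ := hφ y
      exact ⟨Ideal.Quotient.mk G p, rfl⟩
    haveI : IsLocalization.Away (d' * u') R' := by
      refine IsLocalization.Away.mk _ (IsLocalization.Away.algebraMap_isUnit (ψ' (d' * u'))) (fun z => ?_) ?_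
      · obtain ⟨n, y, hy⟩ := IsLocalization.Away.surj (ψ' (d' * u')) z
        obtain ⟨y, rfl⟩ := hψ' y
        exact ⟨n, y, hy⟩
      · intro a a' h
        obtain ⟨n, hn⟩ := IsLocalization.Away.exists_of_eq (ψ' (d' * u')) (show algebraMap B R' (ψ' a) = algebraMap B R' (ψ' a') from h)
        refine ⟨n + 1, ?_⟩
        have h0 : ψ' ((d' * u') ^ n * (a - a')) = 0 := by
          rw [map_mul, map_pow, map_sub, mul_sub, hn, sub_self]
        rw [← sub_eq_zero, ← mul_sub,
          show (d' * u') ^ (n + 1) * (a - a') = d' * (u' * ((d' * u') ^ n * (a - a'))) by ring,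
          hkill _ h0, mul_zero]
    haveI : Algebra.Etale (MvPolynomial (Fin r) A) R' :=
      etale_away_mul (A := MvPolynomial (Fin r) A) (Q := MvPolynomial (Fin N) (MvPolynomial (Fin r) A) ⧸ G)
        (R' := R') d' u' (HenselLib.etale_away_jacobian (eqn P))
    haveI : Algebra.Smooth A (MvPolynomial (Fin r) A) := ⟨inferInstance, inferInstance⟩
    exact ⟨Algebra.Smooth.comp A (MvPolynomial (Fin r) A) R', algebraMap (MvPolynomial (Fin r) A) R',
      (IsScalarTower.algebraMap_eq A (MvPolynomial (Fin r) A) R').symm, RingHom.etale_algebraMap.2 inferInstance⟩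

end

end QSecLib
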